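import Groth.Agent.H21Split.Gen.Plane
import Groth.Agent.H21Split.R3.Iso
import Groth.Agent.H21Split.Bru.BruhatImm

/-!
A subgroup containing the simple root groups contains the positive root groups.
-/

open CategoryTheory MonoidalCategory CartesianMonoidalCategory MonObj GrpObj AlgebraicGeometry
open CategoryTheory.Limits
open Groth.Agent.H21Root (wl)
open Groth.Agent.H27Witt.GaCoord (gaFn_surjective)

universe u

set_option backward.isDefEq.respectTransparency false
set_option linter.style.haveILetI false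
set_option linter.unusedSectionVars false
set_option synthInstance.maxHeartbeats 400000
set_option maxHeartbeats 1000000

noncomputable section

namespace Groth.Agent.H21Split.Gen

/-- lifts through a monomorphism descend along faithfully flat quasi-compact maps -/
theorem exists_lift_flat {S : Scheme.{u}} {X Y G H : Over S} (q : Y ⟶ X) [Flat q.left] [Surjective q.left]
    [QuasiCompact q.left] (h : H ⟶ G) [Mono h] (z : X ⟶ G) (w : Y ⟶ H) (e : w ≫ h = q ≫ z) :
    ∃ v, v ≫ h = z := by
  have hcond : ∀ {Z : Scheme.{u}} (g₁ g₂ : Z ⟶ Y.left), g₁ ≫ q.left = g₂ ≫ q.left →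
      g₁ ≫ w.left = g₂ ≫ w.left := by
    intro Z g₁ g₂ hg
    have hb : g₂ ≫ Y.hom = g₁ ≫ Y.hom := by
      rw [← Over.w q, ← Category.assoc, ← hg, Category.assoc]
    let a : Over.mk (g₁ ≫ Y.hom) ⟶ Y := Over.homMk g₁ rfl
    let b : Over.mk (g₁ ≫ Y.hom) ⟶ Y := Over.homMk g₂ hb
    have hab : a ≫ q = b ≫ q := Over.OverMorphism.ext hg
    exact congrArg (·.left) ((cancel_mono h).mp (show (a ≫ w) ≫ h = (b ≫ w) ≫ h by
      rw [Category.assoc, Category.assoc, e, ← Category.assoc, hab, Category.assoc]))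
  haveI : EffectiveEpi q.left := inferInstance
  let d := EffectiveEpi.desc q.left w.left hcond
  have hd : q.left ≫ d = w.left := EffectiveEpi.fac q.left w.left hcond
  refine ⟨Over.homMk d ?_, Over.OverMorphism.ext ?_⟩
  · rw [← cancel_epi q.left, ← Category.assoc, hd, Over.w, Over.w]
  · rw [← cancel_epi q.left, Over.comp_left]
    change q.left ≫ d ≫ h.left = _
    rw [← Category.assoc, hd, ← Over.comp_left, e, Over.comp_left]

variable {S : Scheme.{u}} {G H : Over S} [GrpObj G] [GrpObj H]

/-- conjugation by a section -/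
def inner (N : 𝟙_ (Over S) ⟶ G) : G ⟶ G := (toUnit G ≫ N) * 𝟙 G * (toUnit G ≫ N)⁻¹

theorem comp_inner (N : 𝟙_ (Over S) ⟶ G) {X : Over S} (z : X ⟶ G) : z ≫ inner N = R3.cj N z := by
  rw [inner, MonObj.comp_mul, MonObj.comp_mul, GrpObj.comp_inv, Category.comp_id, ← Category.assoc,
    toUnit_unique (z ≫ toUnit G) (toUnit X), R3.cj]

instance isMonHom_inner (N : 𝟙_ (Over S) ⟶ G) : IsMonHom (inner N) :=
  H21Diag.isMonHom_of_mul _ fun x y => by rw [comp_inner, comp_inner, comp_inner, R3.cj, R3.cj, R3.cj, conj_mul3]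

variable (D : Red.Pinning G) (e₁ : 𝟙_ (Over S) ⟶ Red.Ga S) (he₁ : Red.gaFn e₁ = 1)
  (avc : D.idx → (Red.Gm S ⟶ D.T))
  (havc : ∀ c, avc c = Red.DSmap S (D.P.coroot c).toAddMonoidHom ≫ D.split.inv.hom.hom)
  (hpair : R3.PairHyp D avc)
include he₁ havc hpair

/-- the positive roots of the span of two simple roots -/
theorem has_span (h : H ⟶ G) [IsMonHom h] {a s x : D.idx} (ha : a ∈ D.base.support) (hs : s ∈ D.base.support)
    (hne : a ≠ s) (ha' : Has h D a) (hs' : Has h D s) (hx : x ∈ RedSub.posRoots D.P D.base) {i j : ℤ}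
    (hij : D.P.root x = i • D.P.root a + j • D.P.root s) : Has h D x := by
  haveI := D.fintypeIdx
  haveI : Finite D.idx := Finite.of_fintype _
  haveI : Module.IsReflexive ℤ D.M := .of_isPerfPair D.P.toLinearMap
  haveI : IsAddTorsionFree D.M := .of_isTorsionFree ℤ D.M
  haveI : Module.IsReflexive ℤ (Module.Dual ℤ D.M) := .of_isPerfPair D.P.flip.toLinearMap
  haveI : IsAddTorsionFree (Module.Dual ℤ D.M) := .of_isTorsionFree ℤ _
  haveI : D.P.IsReduced := isReduced_of_base D.P D.base
  have main : ∀ a s : D.idx, a ∈ D.base.support → s ∈ D.base.support → a ≠ s → Has h D a → Has h D s →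
      ∀ m : ℤ, (m = 1 ∨ m = 2 ∨ m = 3) → D.P.pairing s a = -m → D.P.pairing a s = -1 → ∀ i j : ℤ,
      D.P.root x = i • D.P.root a + j • D.P.root s → Has h D x := by
    intro a s ha hs hne ha' hs' m hm hA hB i j hij
    obtain ⟨re, rf, rq, rr⟩ := R3.PData.roots_span D.toSplitRed hA hB
    have fin : ∀ c : D.idx, ∀ k l : ℤ, D.P.root c = k • D.P.root a + l • D.P.root s → i = k → j = l →
        Has h D c → Has h D x := fun c k l hc hk hl hH => by
      subst hk hl
      rwa [D.P.root.injective (hij.trans hc.symm)]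
    rcases R3.mem_span_pos D ha hs hne hA hB hm hx hij with ⟨rfl, rfl⟩ | ⟨rfl, rfl⟩ | hc
    · exact fin a 1 0 (by simp) rfl rfl ha'
    · exact fin s 0 1 (by simp) rfl rfl hs'
    · simp only [R2.IsPosRootCoord] at hc
      rcases hm with rfl | rfl | rfl
      · exact fin _ _ _ re (by omega) (by omega) (has_one h D e₁ he₁ avc havc hpair ha hs ha' hs' hA hB hne)
      · obtain ⟨h1, h2⟩ := has_two h D e₁ he₁ avc havc hpair ha hs ha' hs' hA hB hne
        rcases hc with ⟨r1, r2⟩ | ⟨-, r1, r2⟩ | ⟨-, r1, r2⟩ | ⟨r, -⟩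
        · exact fin _ _ _ re r1 r2 h1
        · exact fin _ _ _ rq (by omega) r2 h2
        · exfalso
          refine two_smul_notMem D.toSplitRed (D.P.reflectionPerm s a) ⟨x, ?_⟩
          rw [hij, r1, r2, re]; module
        · omega
      · obtain ⟨h1, h2, h3, h4⟩ := has_three h D e₁ he₁ avc havc hpair ha hs ha' hs' hA hB hne
        rcases hc with ⟨r1, r2⟩ | ⟨-, r1, r2⟩ | ⟨r, -, -⟩ | ⟨-, ⟨r1, r2⟩ | ⟨r1, r2⟩⟩
        · exact fin _ _ _ re r1 r2 h1
        · exact fin _ _ _ rf (by omega) r2 h2
        · omega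
        · exact fin _ _ _ rq r1 r2 h3
        · exact fin _ _ _ rr r1 (by omega) h4
  have hli : LinearIndependent ℤ ![D.P.root a, D.P.root s] := by
    have h := LinearIndependent.comp D.base.linearIndepOn_root
      ![(⟨a, ha⟩ : (D.base.support : Set D.idx)), ⟨s, hs⟩] (by
        intro i j hij
        fin_cases i <;> fin_cases j <;> simp_all [hne.symm])
    have e : ((fun x : (D.base.support : Set D.idx) => D.P.root x.1) ∘ ![(⟨a, ha⟩ : (D.base.support : Set D.idx)),
      ⟨s, hs⟩]) = ![D.P.root a, D.P.root s] := funext fun i => by fin_cases i <;> rfl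
    exact e ▸ h
  have e : ∀ p q : D.idx, D.P.pairingIn ℤ p q = D.P.pairing p q := fun p q => by
    simpa using D.P.algebraMap_pairingIn ℤ p q
  have h1 : D.P.pairing s a ≤ 0 := e s a ▸ D.base.pairingIn_le_zero_of_ne hne.symm hs ha
  have h2 : D.P.pairing a s ≤ 0 := e a s ▸ D.base.pairingIn_le_zero_of_ne hne ha hs
  have h4 := R2.pairing_prod_lt_four D.P hli
  have h0 : D.P.pairing s a = 0 ↔ D.P.pairing a s = 0 := D.P.pairing_eq_zero_iff'
  by_cases hz : D.P.pairing s a = 0
  · have hsr : D.P.root (D.P.reflectionPerm a x) = (-i) • D.P.root a + j • D.P.root s := by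
      rw [R3.root_refl' D.toSplitRed a x, R3.PData.pairing_comb D.toSplitRed hij a, D.P.pairing_same, hz, hij]
      module
    have hz2 : i = 0 ∨ j = 0 := by
      rcases R2.coord_sign D.base ha hs hne hij with h | h <;>
        rcases R2.coord_sign D.base ha hs hne hsr with h' | h' <;> omega
    have h1 := R2.height_comb D.base hij
    have h2 : 0 < D.base.height x := by
      rw [← RootPairing.Base.isPos_iff]; exact (R3.posRoots_iff_isPos D.base x).mp hx
    rw [D.base.height_one_of_mem_support ha, D.base.height_one_of_mem_support hs, _root_.mul_one, _root_.mul_one] at h1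
    rcases hz2 with rfl | rfl
    · rw [zero_smul, zero_add] at hij
      rcases D.base.eq_one_or_neg_one_of_mem_support_of_smul_mem s hs j ⟨x, hij⟩ with rfl | rfl
      · rwa [D.P.root.injective (hij.trans (one_smul _ _))]
      · omega
    · rw [zero_smul, add_zero] at hij
      rcases D.base.eq_one_or_neg_one_of_mem_support_of_smul_mem a ha i ⟨x, hij⟩ with rfl | rfl
      · rwa [D.P.root.injective (hij.trans (one_smul _ _))]
      · omega
  · have hz' : D.P.pairing a s ≠ 0 := fun h => hz (h0.mpr h)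
    have hx1 : D.P.pairing a s ≤ -1 := by omega
    have hy1 : D.P.pairing s a ≤ -1 := by omega
    have hx3 : -3 ≤ D.P.pairing a s := by nlinarith
    have hy3 : -3 ≤ D.P.pairing s a := by nlinarith
    have hij' : D.P.root x = j • D.P.root s + i • D.P.root a := by rw [hij, add_comm]
    interval_cases hA : D.P.pairing s a <;> interval_cases hB : D.P.pairing a s <;> norm_num at h4 <;> first
      | exact main a s ha hs hne ha' hs' 1 (by simp) (by simpa using hA) hB i j hij
      | exact main a s ha hs hne ha' hs' 2 (by simp) (by simpa using hA) hB i j hij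
      | exact main a s ha hs hne ha' hs' 3 (by simp) (by simpa using hA) hB i j hij
      | exact main s a hs ha hne.symm hs' ha' 2 (by simp) (by simpa using hB) hA j i hij'
      | exact main s a hs ha hne.symm hs' ha' 3 (by simp) (by simpa using hB) hA j i hij'

omit he₁ havc hpair in
/-- descending to a word positive on two simple roots -/
theorem descend {a s : D.idx} (ha : a ∈ D.base.support) (hs : s ∈ D.base.support) :
    ∀ (n : ℕ) (l : List D.idx), R3.IsWord D l → R3.PData.inv D (wl D.P l) = n → ∀ (x : D.idx) (i j : ℤ),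
      D.P.root x = i • D.P.root a + j • D.P.root s →
      ∃ l', R3.IsWord D l' ∧ R3.PData.inv D (wl D.P l') ≤ n ∧ ∃ (x' : D.idx) (i' j' : ℤ),
        D.P.root x' = i' • D.P.root a + j' • D.P.root s ∧ wl D.P l' • x' = wl D.P l • x ∧
        wl D.P l' • a ∈ R3.PS D ∧ wl D.P l' • s ∈ R3.PS D := by
  haveI := D.fintypeIdx
  haveI : Finite D.idx := Finite.of_fintype _
  haveI : D.P.IsReduced := isReduced_of_base D.P D.base
  intro n
  induction n using Nat.strong_induction_on with
  | _ n ih =>
    intro l hl hn x i j hij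
    by_cases hneg : ∃ t, (t = a ∨ t = s) ∧ wl D.P l • t ∉ R3.PS D
    · obtain ⟨t, ht, htn⟩ := hneg
      have htΔ : t ∈ D.base.support := by rcases ht with rfl | rfl <;> assumption
      have hlt : R3.PData.inv D (wl D.P (l ++ [t])) < n := by
        rw [Groth.Agent.H21Root.wl_append, Groth.Agent.H21Root.wl_singleton, ← hn]
        exact R3.PData.inv_lt' htΔ htn
      have hl1 : R3.IsWord D (l ++ [t]) := fun c hc => by
        rcases List.mem_append.mp hc with h | h
        exacts [hl c h, (List.mem_singleton.mp h).symm ▸ htΔ]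
      have hroot : wl D.P (l ++ [t]) • D.P.reflectionPerm t x = wl D.P l • x := by
        rw [Groth.Agent.H21Root.wl_append, Groth.Agent.H21Root.wl_singleton, mul_smul,
          Groth.Agent.H21Root.sr_smul, D.P.reflectionPerm_self]
      obtain ⟨i₁, j₁, h₁⟩ : ∃ i₁ j₁ : ℤ, D.P.root (D.P.reflectionPerm t x) = i₁ • D.P.root a + j₁ • D.P.root s := by
        rcases ht with rfl | rfl
        · exact ⟨i - D.P.pairing x t, j, by rw [R3.root_refl' D.toSplitRed t x, hij]; module⟩
        · exact ⟨i, j - D.P.pairing x t, by rw [R3.root_refl' D.toSplitRed t x, hij]; module⟩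
      obtain ⟨l', hl', hle, x', i', j', h', h1, h2, h3⟩ := ih _ hlt _ hl1 rfl _ i₁ j₁ h₁
      exact ⟨l', hl', by omega, x', i', j', h', h1.trans hroot, h2, h3⟩
    · push Not at hneg
      exact ⟨l, hl, hn.le, x, i, j, hij, rfl, hneg a (Or.inl rfl), hneg s (Or.inr rfl)⟩

omit he₁ havc hpair in
theorem mem_posRoots_iff_PS (c : D.idx) : c ∈ RedSub.posRoots D.P D.base ↔ c ∈ R3.PS D := by
  haveI := D.fintypeIdx
  haveI : Finite D.idx := Finite.of_fintype _
  exact (R3.posRoots_iff_isPos D.base c).trans (H21Root.isPos_iff_mem_posOf D.base c)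

/-- the root groups of all positive roots, by the length of a word -/
theorem has_word : ∀ (n : ℕ) (h : H ⟶ G) [IsMonHom h], (∀ a ∈ D.base.support, Has h D a) →
    ∀ l : List D.idx, R3.IsWord D l → R3.PData.inv D (wl D.P l) = n → ∀ c ∈ D.base.support, wl D.P l • c ∈ R3.PS D →
      Has h D (wl D.P l • c) := by
  haveI := D.fintypeIdx
  haveI : Finite D.idx := Finite.of_fintype _
  haveI : Module.IsReflexive ℤ D.M := .of_isPerfPair D.P.toLinearMap
  haveI : IsAddTorsionFree D.M := .of_isTorsionFree ℤ D.M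
  haveI : Module.IsReflexive ℤ (Module.Dual ℤ D.M) := .of_isPerfPair D.P.flip.toLinearMap
  haveI : IsAddTorsionFree (Module.Dual ℤ D.M) := .of_isTorsionFree ℤ _
  haveI : D.P.IsReduced := isReduced_of_base D.P D.base
  intro n
  induction n using Nat.strong_induction_on with
  | _ n ih =>
    intro h _ hΔ l hl hn c hc hpos
    by_cases h1 : wl D.P l = 1
    · rw [h1, one_smul]; exact hΔ c hc
    obtain ⟨s, hs, hsn⟩ : ∃ s ∈ D.base.support, wl D.P l • s ∉ R3.PS D := by
      by_contra hc'
      push Not at hc'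
      refine h1 ((R3.PData.zD D).eq_one_of_preserves ?_ hc')
      rw [← (R3.PData.zD D).closure_eq_weylGroup]
      exact Groth.Agent.H21Root.wl_mem_WOf D.P hl
    have hne : c ≠ s := fun e => hsn (e ▸ hpos)
    have hlt : R3.PData.inv D (wl D.P (l ++ [s])) < n := by
      rw [Groth.Agent.H21Root.wl_append, Groth.Agent.H21Root.wl_singleton, ← hn]
      exact R3.PData.inv_lt' hs hsn
    have hl1 : R3.IsWord D (l ++ [s]) := fun d hd => by
      rcases List.mem_append.mp hd with h | h
      exacts [hl d h, (List.mem_singleton.mp h).symm ▸ hs]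
    have hroot : wl D.P (l ++ [s]) • D.P.reflectionPerm s c = wl D.P l • c := by
      rw [Groth.Agent.H21Root.wl_append, Groth.Agent.H21Root.wl_singleton, mul_smul,
        Groth.Agent.H21Root.sr_smul, D.P.reflectionPerm_self]
    obtain ⟨l', hl', hle, x, i, j, hij, hx, hpc, hps⟩ := descend D hc hs _ _ hl1 rfl (D.P.reflectionPerm s c) 1
      (- D.P.pairing c s) (by rw [R3.root_refl' D.toSplitRed s c]; module)
    rw [hroot] at hx
    have hxc := ih _ (lt_of_le_of_lt hle hlt) h hΔ l' hl' rfl c hc hpc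
    have hxs := ih _ (lt_of_le_of_lt hle hlt) h hΔ l' hl' rfl s hs hps
    set σ := wl D.P l'
    have hR : Rl D.toSplitRed (nW D.toSplitRed l') σ := rl_nW D.toSplitRed l'
    have hR' : Rl D.toSplitRed (nW D.toSplitRed l')⁻¹ σ⁻¹ := rl_nW_inv D.toSplitRed l'
    set N := nW D.toSplitRed l'
    have hconj : ∀ (X : Over S) (z : X ⟶ G), z ∈ pts (h ≫ inner N⁻¹) X ↔ R3.cj N z ∈ pts h X := by
      intro X z
      constructor
      · rintro ⟨w, rfl⟩
        refine ⟨w, ?_⟩
        change _ = R3.cj N (w ≫ h ≫ inner N⁻¹)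
        rw [← Category.assoc, comp_inner, ← R3.cj_mul, mul_inv_cancel]
        simp [R3.cj]
      · rintro ⟨w, hw⟩
        refine ⟨w, ?_⟩
        change w ≫ h ≫ inner N⁻¹ = z
        rw [← Category.assoc, comp_inner, show w ≫ h = R3.cj N z from hw, ← R3.cj_mul, inv_mul_cancel]
        simp [R3.cj]
    have htrans : ∀ d, Has h D (σ • d) → Has (h ≫ inner N⁻¹) D d := fun d hd X ω hω z => by
      obtain ⟨y, hy⟩ := hR.root d X z
      refine (hconj X _).mpr ?_
      rw [show R3.cj N (z ≫ D.u d) = y ≫ D.u (σ • d) from hy]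
      exact hd X ω hω y
    have hxpos : x ∈ RedSub.posRoots D.P D.base := by
      rw [R3.posRoots_iff_isPos, RootPairing.Base.isPos_iff]
      have hh := R2.height_comb D.base (show D.P.root (σ • x) = i • D.P.root (σ • c) + j • D.P.root (σ • s) by
        rw [Groth.Agent.H21Root.root_smul, hij, smul_add, smul_comm, smul_comm σ j,
          ← Groth.Agent.H21Root.root_smul, ← Groth.Agent.H21Root.root_smul])
      have hc1 : 1 ≤ D.base.height (σ • c) := (Groth.Agent.H21Root.isPos_iff_mem_posOf D.base _).mpr hpc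
      have hs1 : 1 ≤ D.base.height (σ • s) := (Groth.Agent.H21Root.isPos_iff_mem_posOf D.base _).mpr hps
      have hw1 : 1 ≤ D.base.height (σ • x) := (Groth.Agent.H21Root.isPos_iff_mem_posOf D.base _).mpr (hx ▸ hpos)
      have hh2 := R2.height_comb D.base hij
      rw [D.base.height_one_of_mem_support hc, D.base.height_one_of_mem_support hs, _root_.mul_one,
        _root_.mul_one] at hh2
      rcases R2.coord_sign D.base hc hs hne hij with ⟨hi, hj⟩ | ⟨hi, hj⟩
      · rcases eq_or_ne (i + j) 0 with e | e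
        · obtain ⟨rfl, rfl⟩ : i = 0 ∧ j = 0 := by omega
          simp [D.P.ne_zero x] at hij
        · omega
      · nlinarith
    have hres := has_span D e₁ he₁ avc havc hpair (h ≫ inner N⁻¹) hc hs hne (htrans c hxc) (htrans s hxs) hxpos hij
    obtain ⟨φ, hφ⟩ := hR.exists_iso_conj D.toSplitRed hR' x
    intro X ω hω y
    rw [← hx]
    have h2 := (hconj X _).mp (hres X ω hω (y ≫ φ.inv))
    rw [R3.cj] at h2
    change (toUnit X ≫ N) * _ * (toUnit X ≫ N)⁻¹ ∈ _ at h2
    have h3 := hφ X (y ≫ φ.inv)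
    simp only [Category.assoc, Iso.inv_hom_id_assoc] at h3 h2
    rwa [h3] at h2

omit he₁ havc hpair in
/-- a golden unit exists after a finite free extension -/
theorem exists_golden {R : Type u} [CommRing R] (g : Spec (CommRingCat.of R) ⟶ S) :
    ∃ (Y : Over S) (q : Y ⟶ pt g R) (ω : Γ(Y.left, ⊤)), Flat q.left ∧ Surjective q.left ∧ QuasiCompact q.left ∧
      ω * ω = ω + 1 := by
  let P : Polynomial R := Polynomial.X ^ 2 - (Polynomial.X + 1)
  have hP : P.Monic := by simp only [P]; monicity!
  haveI : Module.Free R (AdjoinRoot P) := .of_basis (AdjoinRoot.powerBasis' hP).basis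
  haveI : Module.Finite R (AdjoinRoot P) := (AdjoinRoot.powerBasis' hP).finite
  let f : R →ₐ[R] AdjoinRoot P := Algebra.ofId R _
  refine ⟨pt g (AdjoinRoot P), pmap g f, (Scheme.ΓSpecIso (CommRingCat.of (AdjoinRoot P))).inv (AdjoinRoot.root P),
    ?_, ?_, ?_, ?_⟩
  · rw [pmap_left]
    exact (HasRingHomProperty.Spec_iff (P := @Flat)).mpr
      ((RingHom.flat_algebraMap_iff (R := R) (S := AdjoinRoot P)).mpr inferInstance)
  · rw [pmap_left]
    refine ⟨?_⟩
    change Function.Surjective (PrimeSpectrum.comap (algebraMap R (AdjoinRoot P)))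
    rcases subsingleton_or_nontrivial R with hR | hR
    · intro p; exact p.isPrime.ne_top (Ideal.eq_top_of_isUnit_mem _ p.asIdeal.zero_mem
        (isUnit_of_subsingleton 0)) |>.elim
    · haveI : Nontrivial (AdjoinRoot P) := by
        refine Module.nontrivial_of_finrank_pos (R := R) ?_
        rw [(AdjoinRoot.powerBasis' hP).finrank, AdjoinRoot.powerBasis'_dim]
        have : P.natDegree = 2 := by
          simp only [P]; compute_degree!
        omega
      exact PrimeSpectrum.comap_surjective_of_faithfullyFlat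
  · exact (inferInstance : QuasiCompact (Spec.map (CommRingCat.ofHom f.toRingHom)))
  · have hr : AdjoinRoot.root P * AdjoinRoot.root P = AdjoinRoot.root P + 1 := by
      have h := AdjoinRoot.eval₂_root P
      simp only [P, Polynomial.eval₂_sub, Polynomial.eval₂_add, Polynomial.eval₂_X_pow, Polynomial.eval₂_X,
        Polynomial.eval₂_one, sub_eq_zero] at h
      rw [← pow_two]; exact h
    refine ((map_mul _ _ _).symm.trans (congrArg _ hr)).trans ?_
    exact (map_add _ _ _).trans (congrArg (_ + ·) (map_one _))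

end Groth.Agent.H21Split.Gen

namespace Groth.Agent.H21Split.Gen

variable {S : Scheme.{u}} {G H : Over S} [GrpObj G] [GrpObj H]

/-- a subgroup containing the simple root groups contains the positive root groups -/
theorem posRootHom_mem (D : Red.Pinning G) (h : H ⟶ G) [IsMonHom h] [Mono h]
    (hsimple : ∀ a ∈ D.base.support, ∃ v : Red.Ga S ⟶ H, v ≫ h = D.u a) :
    ∀ b ∈ RedSub.posRoots D.P D.base, ∃ v : Red.Ga S ⟶ H, v ≫ h = D.u b := by
  haveI := D.fintypeIdx
  haveI : Finite D.idx := Finite.of_fintype _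
  haveI : D.P.IsReduced := isReduced_of_base D.P D.base
  intro r hr
  let P := R3.dualPin D
  obtain ⟨e₁, he₁⟩ := gaFn_surjective (X := 𝟙_ (Over S)) 1
  have hP : ∀ a ∈ P.base.support, Has h P a := fun a ha X ω _ x => by
    obtain ⟨v, hv⟩ := hsimple a ha
    refine ⟨x ≫ v, ?_⟩
    change (x ≫ v) ≫ h = x ≫ P.u a
    rw [show P.u a = D.u a from R3.dualPin_u D ha, Category.assoc, hv]
  obtain ⟨w, hw, a, ha, hwa⟩ := (H21Root.simpleZ_base (P := D.P) D.base).exists_smul_eq
    (k := r) (fun j hj => two_smul_notMem D.toSplitRed j ⟨r, by rw [← hj]⟩)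
  obtain ⟨l, hl, rfl⟩ := H21Root.exists_word D.P hw
  have hall : Has h P r := by
    have hpos : wl D.P l • a ∈ R3.PS D := by rw [hwa]; exact (mem_posRoots_iff_PS D r).mp hr
    exact hwa ▸ has_word P e₁ he₁ _ (fun _ => rfl) (R3.pairHyp_dualPin D) _ h hP l hl rfl a ha hpos
  refine exists_lift_of_pts h (D.u r) fun R _ g j => ?_
  obtain ⟨Y, q, ω, hq1, hq2, hq3, hω⟩ := exists_golden g
  haveI := hq1
  haveI := hq2
  haveI := hq3
  have hPu : ∃ φ : Red.Ga S ⟶ Red.Ga S, φ ≫ P.u r = D.u r := by
    by_cases hrs : r ∈ D.base.support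
    · exact ⟨𝟙 _, by rw [Category.id_comp]; exact R3.dualPin_u D hrs⟩
    · haveI := (H21Rank1.isIso_powScale (R3.dualScale D (D.P.reflectionPerm r r))).1
      refine ⟨CategoryTheory.inv (H21Rank1.powScale 1 (R3.dualScale D (D.P.reflectionPerm r r))), ?_⟩
      rw [show P.u r = H21Rank1.powScale 1 (R3.dualScale D (D.P.reflectionPerm r r)) ≫ D.u r from if_neg hrs,
        IsIso.inv_hom_id_assoc]
  obtain ⟨φ, hφ⟩ := hPu
  obtain ⟨w', hw'⟩ := hall Y ω hω ((q ≫ j) ≫ φ)
  refine exists_lift_flat q h _ w' (hw'.trans ?_)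
  simp only [Category.assoc, hφ]

end Groth.Agent.H21Split.Gen
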