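import Groth.Agent.H21Split.R3.G2Vals
import Groth.Agent.H21Split.R3.Tables2
import Groth.Agent.H21Split.R3.Lines

/-!
A subgroup containing the root groups of two simple roots contains those of the positive roots in their span,
over a base with a golden unit.
-/

open CategoryTheory MonoidalCategory CartesianMonoidalCategory MonObj GrpObj AlgebraicGeometry
open Groth.Agent.H27Witt.GaCoord (gaFn_comp gaFn_surjective gaFn_injective gaFn_one gaFn_mul)

universe u

set_option backward.isDefEq.respectTransparency false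
set_option linter.style.haveILetI false
set_option linter.unusedSectionVars false
set_option synthInstance.maxHeartbeats 400000
set_option maxHeartbeats 1000000

noncomputable section

namespace Groth.Agent.H21Split.Gen

open R3 (cj cj_mul cj_inv gw Eu Fu Qu Ru uv)

section Alg

variable {A : Type*} [CommRing A] {ω : A} (hω : ω * ω = ω + 1)
include hω

theorem iota_mul : ω * (ω - 1) = 1 := by linear_combination hω

theorem sq_sub_one : ω ^ 2 - 1 = ω := by linear_combination hω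

theorem sq_iota : ω ^ 2 * (ω - 1) ^ 2 = 1 := by
  linear_combination (ω * (ω - 1) + 1) * hω

variable {M : Type*} [Group M] (K : Subgroup M)

/-- two components from their joint products -/
theorem split_two (U V : A → M) (hV : ∀ s t, V (s + t) = V s * V t)
    (h : ∀ x y : A, U (x * y) * V (x ^ 2 * y) ∈ K) : ∀ z, U z ∈ K ∧ V z ∈ K := by
  have hV0 : ∀ v, V v ∈ K := fun v => by
    have h1 := h 1 (ω * v)
    have h2 := h ω ((ω - 1) * (ω * v))
    rw [_root_.one_mul, one_pow, _root_.one_mul] at h1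
    rw [show ω * ((ω - 1) * (ω * v)) = ω * v by linear_combination (ω * v) * hω,
      show ω ^ 2 * ((ω - 1) * (ω * v)) = ω * v + v by linear_combination (ω ^ 2 * v + v) * hω, hV] at h2
    have h3 := mul_mem (inv_mem h1) h2
    rwa [show (U (ω * v) * V (ω * v))⁻¹ * (U (ω * v) * (V (ω * v) * V v)) = V v by group] at h3
  intro z
  refine ⟨?_, hV0 z⟩
  have h1 := h 1 z
  rw [_root_.one_mul, one_pow, _root_.one_mul] at h1
  exact (Subgroup.mul_mem_cancel_right K (hV0 z)).mp h1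

omit hω in
theorem reorder_aux {e f q r f' q' r' : M} (hfq : Commute f' q) (hfr : Commute f' r) (hqr : Commute q' r) :
    (e * f * q * r)⁻¹ * (e * (f * f') * (q * q') * (r * r')) = f' * q' * r' := by
  calc (e * f * q * r)⁻¹ * (e * (f * f') * (q * q') * (r * r')) = r⁻¹ * q⁻¹ * (f' * q) * q' * r * r' := by group
    _ = r⁻¹ * q⁻¹ * (q * f') * q' * r * r' := by rw [hfq.eq]
    _ = r⁻¹ * f' * (q' * r) * r' := by group
    _ = r⁻¹ * (f' * r) * q' * r' := by rw [hqr.eq]; group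
    _ = _ := by rw [hfr.eq]; group

set_option linter.unusedVariables false in
/-- four components from their joint products -/
theorem split_four (E F Q R b : A → M) (hF : ∀ s t, F (s + t) = F s * F t) (hQ : ∀ s t, Q (s + t) = Q s * Q t)
    (hR : ∀ s t, R (s + t) = R s * R t) (hFQ : ∀ s t, Commute (F s) (Q t)) (hFR : ∀ s t, Commute (F s) (R t))
    (hQR : ∀ s t, Commute (Q s) (R t)) (hbF : ∀ s t, Commute (b s) (F t)) (hbR : ∀ s t, Commute (b s) (R t))
    (hbQ : ∀ x y, Q y * b x = b x * Q y * R (-(x * y))) (hb : ∀ x, b x ∈ K)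
    (h : ∀ x y : A, E (x * y) * F (x ^ 2 * y) * Q (x ^ 3 * y) * R (x ^ 3 * y ^ 2) ∈ K) :
    ∀ z, E z ∈ K ∧ F z ∈ K ∧ Q z ∈ K ∧ R z ∈ K := by
  -- the quotient of two joint products
  have hh : ∀ l m : A, F ((ω - 1) * (l ^ 2 * m)) * Q (ω * (l ^ 3 * m)) * R ((ω - 1) * (l ^ 3 * m ^ 2)) ∈ K := by
    intro l m
    have h1 := h l m
    have h2 := h (ω * l) ((ω - 1) * m)
    rw [show ω * l * ((ω - 1) * m) = l * m by linear_combination (l * m) * hω,
      show (ω * l) ^ 2 * ((ω - 1) * m) = l ^ 2 * m + (ω - 1) * (l ^ 2 * m) by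
        linear_combination (l ^ 2 * m * ω) * hω,
      show (ω * l) ^ 3 * ((ω - 1) * m) = l ^ 3 * m + ω * (l ^ 3 * m) by
        linear_combination (l ^ 3 * m * (ω ^ 2 + 1)) * hω,
      show (ω * l) ^ 3 * ((ω - 1) * m) ^ 2 = l ^ 3 * m ^ 2 + (ω - 1) * (l ^ 3 * m ^ 2) by
        linear_combination (l ^ 3 * m ^ 2 * ω * (ω * (ω - 1) + 1)) * hω,
      hF, hQ, hR] at h2
    have h3 := mul_mem (inv_mem h1) h2
    rw [reorder_aux (hFQ _ _) (hFR _ _) (hQR _ _)] at h3
    exact h3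
  -- the last component
  have hR0 : ∀ z, R z ∈ K := fun z => by
    have h1 := hh 1 (1 : A)
    simp only [one_pow, _root_.mul_one] at h1
    set f := F (ω - 1)
    set q := Q ω
    set r := R (ω - 1)
    have h2 := mul_mem (inv_mem h1) (mul_mem (inv_mem (hb (-(ω - 1) * z))) (mul_mem h1 (hb (-(ω - 1) * z))))
    set x := -(ω - 1) * z
    have e : f * q * r * b x = b x * (f * q * r) * R (-(x * ω)) := by
      calc f * q * r * b x = f * q * (b x * r) := by rw [(hbR _ _).eq, _root_.mul_assoc]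
        _ = f * (q * b x) * r := by simp only [_root_.mul_assoc]
        _ = f * b x * q * (R (-(x * ω)) * r) := by
          rw [hbQ]; simp only [q, _root_.mul_assoc]
        _ = b x * f * q * (r * R (-(x * ω))) := by
          rw [(hbF x _).eq, show R (-(x * ω)) * r = r * R (-(x * ω)) by rw [← hR, ← hR, add_comm]]
        _ = _ := by simp only [_root_.mul_assoc]
    rw [e, show (f * q * r)⁻¹ * ((b x)⁻¹ * (b x * (f * q * r) * R (-(x * ω)))) = R (-(x * ω)) by group,
      show -(x * ω) = z by linear_combination z * hω] at h2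
    exact h2
  have hh' : ∀ l m : A, F ((ω - 1) * (l ^ 2 * m)) * Q (ω * (l ^ 3 * m)) ∈ K := fun l m =>
    (Subgroup.mul_mem_cancel_right K (hR0 _)).mp (hh l m)
  have hQ0 : ∀ z, Q z ∈ K := fun z => by
    have h1 := hh' 1 z
    have h2 := hh' ω ((ω - 1) ^ 2 * z)
    simp only [one_pow, _root_.one_mul] at h1
    rw [show ω ^ 2 * ((ω - 1) ^ 2 * z) = z by linear_combination z * sq_iota hω,
      show ω * (ω ^ 3 * ((ω - 1) ^ 2 * z)) = ω * z + z by
        linear_combination (ω ^ 2 * z) * sq_iota hω + z * hω,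
      hQ] at h2
    have h3 := mul_mem (inv_mem h1) h2
    rwa [show (F ((ω - 1) * z) * Q (ω * z))⁻¹ * (F ((ω - 1) * z) * (Q (ω * z) * Q z)) = Q z by group] at h3
  have hF0 : ∀ z, F z ∈ K := fun z => by
    have h1 := (Subgroup.mul_mem_cancel_right K (hQ0 _)).mp (hh' 1 (ω * z))
    rwa [show (ω - 1) * ((1 : A) ^ 2 * (ω * z)) = z by linear_combination z * hω] at h1
  intro z
  refine ⟨?_, hF0 z, hQ0 z, hR0 z⟩
  have h1 := h 1 z
  simp only [one_pow, _root_.one_mul] at h1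
  exact (Subgroup.mul_mem_cancel_right K (hF0 _)).mp ((Subgroup.mul_mem_cancel_right K (hQ0 _)).mp
    ((Subgroup.mul_mem_cancel_right K (hR0 _)).mp h1))

end Alg

variable {S : Scheme.{u}} {G H : Over S} [GrpObj G] [GrpObj H] (h : H ⟶ G) [IsMonHom h]

/-- the points of a subgroup -/
def pts (X : Over S) : Subgroup (X ⟶ G) :=
  (MonoidHom.mk' (fun x : X ⟶ H => x ≫ h) fun a b => MonObj.mul_comp a b h).range

theorem mem_pts {X : Over S} {z : X ⟶ G} : z ∈ pts h X ↔ ∃ x, x ≫ h = z := Iff.rfl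

theorem pts_pull {X Y : Over S} (f : Y ⟶ X) {z : X ⟶ G} (hz : z ∈ pts h X) : f ≫ z ∈ pts h Y := by
  obtain ⟨x, rfl⟩ := hz
  exact ⟨f ≫ x, Category.assoc f x h⟩

/-- the root group lies in the subgroup over every base with a golden unit -/
def Has (D : Red.Pinning G) (c : D.idx) : Prop :=
  ∀ (X : Over S) (ω : Γ(X.left, ⊤)), ω * ω = ω + 1 → ∀ x : X ⟶ Red.Ga S, x ≫ D.u c ∈ pts h X

variable (D : Red.Pinning G) (e₁ : 𝟙_ (Over S) ⟶ Red.Ga S) (he₁ : Red.gaFn e₁ = 1)
  (avc : D.idx → (Red.Gm S ⟶ D.T))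
  (havc : ∀ c, avc c = Red.DSmap S (D.P.coroot c).toAddMonoidHom ≫ D.split.inv.hom.hom)
  (hpair : R3.PairHyp D avc)
include he₁ havc hpair

theorem gw_acts {t : D.idx} (ht : t ∈ D.base.support) (X : Over S) (s : X ⟶ D.T) :
    (toUnit X ≫ gw e₁ D t) * (s ≫ D.i) * (toUnit X ≫ gw e₁ D t)⁻¹ =
      s ≫ D.split.hom.hom.hom ≫ Red.DSmap S (D.P.reflection t).toLinearMap.toAddMonoidHom ≫
        D.split.inv.hom.hom ≫ D.i :=
  weyl_acts D.toSplitRed e₁ he₁ t (avc t) (havc t) (hpair t ht) X s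

/-- every point of a reflected root group is a conjugate -/
theorem exists_cj {t : D.idx} (ht : t ∈ D.base.support) (c : D.idx) {X : Over S} (y : X ⟶ Red.Ga S) :
    ∃ x : X ⟶ Red.Ga S, y ≫ D.u (D.P.reflectionPerm t c) = cj (gw e₁ D t) (x ≫ D.u c) := by
  obtain ⟨x, hx⟩ := R3.conj_root_surj D t c _ (gw_acts D e₁ he₁ avc havc hpair ht) y
  exact ⟨x, hx.symm⟩

variable {a b : D.idx} (ha : a ∈ D.base.support) (hb : b ∈ D.base.support)
include ha hb

theorem cj_hom {t : 𝟙_ (Over S) ⟶ G} {c : D.idx} {X : Over S} (s s' : Γ(X.left, ⊤)) :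
    cj t (uv D c (s + s')) = cj t (uv D c s) * cj t (uv D c s') := by
  have hu : IsMonHom (D.u c) := (D.rootHom c).1
  have e : R3.ga (s + s') = R3.ga s * R3.ga s' :=
    gaFn_injective (by rw [R3.gaFn_ga, gaFn_mul, R3.gaFn_ga, R3.gaFn_ga])
  rw [cj, cj, cj, conj_mul3, uv, uv, uv, e, @MonObj.mul_comp _ _ _ _ _ _ _ _ _ _ _ hu]

theorem cj_hom' {t : 𝟙_ (Over S) ⟶ G} {c : D.idx} {X : Over S} (s s' : Γ(X.left, ⊤)) :
    cj t (uv D c (-(s + s'))) = cj t (uv D c (-s)) * cj t (uv D c (-s')) := by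
  rw [← cj_hom D e₁ he₁ avc havc hpair ha hb, neg_add]

theorem has_one (ha' : Has h D a) (hb' : Has h D b) (hba : D.P.pairing b a = -1) (hab : D.P.pairing a b = -1)
    (hne : a ≠ b) : Has h D (D.P.reflectionPerm b a) := by
  intro X ω hω y
  obtain ⟨x, hx⟩ := exists_cj D e₁ he₁ avc havc hpair hb a y
  obtain ⟨one, h1⟩ := gaFn_surjective (X := X) 1
  have hc := S8463.result S e₁ he₁ G D avc havc hpair (gw e₁ D) (fun _ => rfl) a b ha hb hne hba hab
    (fun X x => cj (gw e₁ D b) (x ≫ D.u a)) (fun _ _ => rfl) X x one x (by rw [h1, _root_.mul_one])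
  rw [hx]
  exact (Subgroup.mul_mem_cancel_left _ (mul_mem (ha' X ω hω x) (hb' X ω hω one))).mp
    (hc ▸ mul_mem (hb' X ω hω one) (ha' X ω hω x))

theorem has_two (ha' : Has h D a) (hb' : Has h D b) (hba : D.P.pairing b a = -2) (hab : D.P.pairing a b = -1)
    (hne : a ≠ b) : Has h D (D.P.reflectionPerm b a) ∧ Has h D (D.P.reflectionPerm a b) := by
  have key : ∀ (X : Over S) (ω : Γ(X.left, ⊤)), ω * ω = ω + 1 → ∀ z,
      cj (gw e₁ D b) (uv D a z) ∈ pts h X ∧ cj (gw e₁ D a) (uv D b z) ∈ pts h X := fun X ω hω => by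
    refine split_two hω (pts h X) (fun z => cj (gw e₁ D b) (uv D a z)) (fun z => cj (gw e₁ D a) (uv D b z))
      (fun s t => cj_hom D e₁ he₁ avc havc hpair ha hb s t) fun x y => ?_
    obtain ⟨hc, -⟩ := S8464.result S e₁ he₁ G D avc havc hpair (gw e₁ D) (fun _ => rfl) a b ha hb hne hba hab
      (fun X x => cj (gw e₁ D b) (x ≫ D.u a)) (fun _ _ => rfl) (fun X x => cj (gw e₁ D a) (x ≫ D.u b))
      (fun _ _ => rfl) X (R3.ga x) (R3.ga y) (R3.ga (x * y)) (R3.ga (x ^ 2 * y)) (R3.ga (2 * x * y)) (by simp only [R3.gaFn_ga])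
      (by simp only [R3.gaFn_ga]) (by simp only [R3.gaFn_ga])
    refine (Subgroup.mul_mem_cancel_left _ (mul_mem (ha' X ω hω (R3.ga x)) (hb' X ω hω (R3.ga y)))).mp ?_
    rw [← _root_.mul_assoc]
    exact hc ▸ mul_mem (hb' X ω hω (R3.ga y)) (ha' X ω hω (R3.ga x))
  refine ⟨fun X ω hω y => ?_, fun X ω hω y => ?_⟩
  · obtain ⟨x, hx⟩ := exists_cj D e₁ he₁ avc havc hpair hb a y
    rw [hx, ← R3.ga_gaFn x]
    exact (key X ω hω (Red.gaFn x)).1
  · obtain ⟨x, hx⟩ := exists_cj D e₁ he₁ avc havc hpair ha b y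
    rw [hx, ← R3.ga_gaFn x]
    exact (key X ω hω (Red.gaFn x)).2

theorem has_three (ha' : Has h D a) (hb' : Has h D b) (hba : D.P.pairing b a = -3) (hab : D.P.pairing a b = -1)
    (hne : a ≠ b) : Has h D (D.P.reflectionPerm b a) ∧
      Has h D (D.P.reflectionPerm a (D.P.reflectionPerm b a)) ∧ Has h D (D.P.reflectionPerm a b) ∧
      Has h D (D.P.reflectionPerm b (D.P.reflectionPerm a b)) := by
  have key : ∀ (X : Over S) (ω : Γ(X.left, ⊤)), ω * ω = ω + 1 → ∀ z : Γ(X.left, ⊤),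
      Eu e₁ D a b z ∈ pts h X ∧ Fu e₁ D a b z ∈ pts h X ∧ Qu e₁ D a b z ∈ pts h X ∧ Ru e₁ D a b z ∈ pts h X :=
    fun X ω hω => by
    have hr := fun x y => R3.g2Rel e₁ D a b he₁ avc havc hpair ha hb hne hba hab X x y
    refine split_four hω (pts h X) (Eu e₁ D a b) (Fu e₁ D a b) (Qu e₁ D a b) (Ru e₁ D a b) (uv D b)
      (fun s t => cj_hom D e₁ he₁ avc havc hpair ha hb s t) (fun s t => cj_hom' D e₁ he₁ avc havc hpair ha hb s t)
      (fun s t => cj_hom' D e₁ he₁ avc havc hpair ha hb s t) (fun s t => (hr s t).FQ) (fun s t => (hr s t).FR)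
      (fun s t => (hr s t).QR) (fun s t => (hr s t).bF) (fun s t => (hr s t).bR) (fun x y => (hr x y).bQ)
      (fun x => hb' X ω hω _) fun x y => ?_
    exact (Subgroup.mul_mem_cancel_left _ (mul_mem (ha' X ω hω (R3.ga x)) (hb' X ω hω (R3.ga y)))).mp
      ((hr x y).ab ▸ mul_mem (hb' X ω hω (R3.ga y)) (ha' X ω hω (R3.ga x)))
  refine ⟨fun X ω hω y => ?_, fun X ω hω y => ?_, fun X ω hω y => ?_, fun X ω hω y => ?_⟩
  · obtain ⟨x, hx⟩ := exists_cj D e₁ he₁ avc havc hpair hb a y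
    rw [hx, ← R3.ga_gaFn x]
    exact (key X ω hω (Red.gaFn x)).1
  · obtain ⟨z, hz⟩ := exists_cj D e₁ he₁ avc havc hpair ha (D.P.reflectionPerm b a) y
    obtain ⟨x, hx⟩ := exists_cj D e₁ he₁ avc havc hpair hb a z
    rw [hz, hx, ← cj_mul, ← R3.ga_gaFn x]
    exact (key X ω hω (Red.gaFn x)).2.1
  · obtain ⟨x, hx⟩ := exists_cj D e₁ he₁ avc havc hpair ha b y
    have := (key X ω hω (-Red.gaFn x)).2.2.1
    rw [Qu, neg_neg, uv, R3.ga_gaFn] at this
    rw [hx]; exact this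
  · obtain ⟨z, hz⟩ := exists_cj D e₁ he₁ avc havc hpair hb (D.P.reflectionPerm a b) y
    obtain ⟨x, hx⟩ := exists_cj D e₁ he₁ avc havc hpair ha b z
    have := (key X ω hω (-Red.gaFn x)).2.2.2
    rw [Ru, neg_neg, uv, R3.ga_gaFn] at this
    rw [hz, hx, ← cj_mul]; exact this

end Groth.Agent.H21Split.Gen
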